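import Groth.Agent.PointOrth.FromPoint
import Groth.Agent.DQGen.Vanish
import Groth.Agent.ExtFin.Perfect

/-!
# Perfect complexes orthogonal to a closed point
-/

set_option linter.style.haveILetI false
set_option linter.unusedSectionVars false
set_option backward.isDefEq.respectTransparency false
set_option backward.isDefEq.respectTransparency.types false

universe u

open CategoryTheory CategoryTheory.Limits AlgebraicGeometry TopologicalSpace Opposite

attribute [local instance] HasDerivedCategory.standard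

namespace Groth.Agent.PointOrth

open Groth.Agent

variable {X : Scheme.{u}}

theorem isCohD_of_isPerfect [IsLocallyNoetherian X] {K : DCoh.D X} (hK : DCoh.IsPerfect K) :
    DCoh.IsCohD K := fun i =>
  KFlatLib.isCoh_of_locPC (DQGen.isQCohD_of_isPerfect hK) (((KFlatLib.isPerfect_iff K).1 hK).locPC i) i le_rfl

theorem exists_open (K : DCoh.D X) (hK : DCoh.IsCohD K) (a b : ℤ) (ha : K.IsGE a) (hb : K.IsLE b) (x : X)
    (h : ∀ i : ℤ, x ∉ CohB1.support (DCoh.HD K i)) :
    ∃ U : X.Opens, x ∈ U ∧ ∀ (i : ℤ) (y : X), y ∈ U → y ∉ CohB1.support (DCoh.HD K i) := by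
  have hc : IsClosed (⋃ i ∈ Finset.Icc a b, CohB1.support (DCoh.HD K i)) :=
    (Finset.Icc a b).finite_toSet.isClosed_biUnion fun i _ => QCoh.isClosed_support_of_isFT (hK i).1 (hK i).2
  refine ⟨⟨_, hc.isOpen_compl⟩, ?_, fun i y hy hys => ?_⟩
  · intro hxs
    obtain ⟨i, -, hi⟩ := Set.mem_iUnion₂.1 hxs
    exact h i hi
  · by_cases hi : i ∈ Finset.Icc a b
    · exact hy (Set.mem_iUnion₂.2 ⟨i, hi, hys⟩)
    · rw [Finset.mem_Icc, not_and_or] at hi
      have hz : IsZero (DCoh.HD K i) := by
        rcases hi with hi | hi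
        · exact K.isZero_of_isGE a i (by omega)
        · exact K.isZero_of_isLE b i (by omega)
      exact hys (ModuleCat.subsingleton_of_isZero ((DerSch.stalkFunctor X y).map_isZero hz))

theorem zero_near_point [IsLocallyNoetherian X] [CompactSpace X] (x : X) (hx : IsClosed ({x} : Set X))
    (K : DCoh.D X) (hK : DCoh.IsPerfect K) :
    ((∀ (i : ℤ) (φ : DCoh.inD X ((Scheme.Modules.pushforward (X.fromSpecResidueField x)).obj
      (Coh.structureModule _)) ⟶ (shiftFunctor (DCoh.D X) i).obj K), φ = 0) →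
      ∃ U : X.Opens, x ∈ U ∧ ∀ (i : ℤ) (y : X), y ∈ U → y ∉ CohB1.support (DCoh.HD K i)) ∧
    ((∀ (i : ℤ) (φ : K ⟶ (shiftFunctor (DCoh.D X) i).obj (DCoh.inD X
      ((Scheme.Modules.pushforward (X.fromSpecResidueField x)).obj (Coh.structureModule _)))), φ = 0) →
      ∃ U : X.Opens, x ∈ U ∧ ∀ (i : ℤ) (y : X), y ∈ U → y ∉ CohB1.support (DCoh.HD K i)) := by
  obtain ⟨a, b, ha, hb⟩ := DQGen.exists_bounds_of_isPerfect hK
  have hc := isCohD_of_isPerfect hK
  refine ⟨fun h => exists_open K hc a b ha hb x fun i => stalks_eq_zero_of_orth hx K hc a h i,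
    fun h => exists_open K hc a b ha hb x fun i => ?_⟩
  exact (stalks_vanish_iff x K hc b (i - 1)).2 (fun j _ φ => h (-j) φ) i (by omega)

end Groth.Agent.PointOrth
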