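import Mathlib.Algebra.Homology.DerivedCategory.TStructure
import Mathlib.Algebra.Category.ModuleCat.Abelian
import Mathlib.Algebra.Homology.DerivedCategory.FullyFaithful
import Mathlib.RingTheory.SimpleModule.Basic
import Mathlib.RingTheory.LocalRing.ResidueField.Basic
import Mathlib.RingTheory.Nakayama
import Mathlib.Algebra.Homology.DerivedCategory.HomologySequence

/-!
# Homomorphisms to the residue field detect the top cohomology
-/

set_option linter.style.haveILetI false
set_option linter.unusedSectionVars false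

universe w v u

open CategoryTheory CategoryTheory.Limits DerivedCategory

namespace Groth.Agent.PointOrth

variable {A : Type u} [Category.{v} A] [Abelian A] [HasDerivedCategory.{w} A]

/-- `single c N ≅ (single 0 N)⟦-c⟧`. -/
noncomputable def singleShift (c : ℤ) (N : A) :
    (shiftFunctor (DerivedCategory A) (-c)).obj ((singleFunctor A 0).obj N) ≅ (singleFunctor A c).obj N :=
  ((singleFunctors A).shiftIso (-c) c 0 (by omega)).app N

theorem eq_zero_of_isLE {L : DerivedCategory A} {b i : ℤ} [L.IsLE b] (hi : b < i) (N : A)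
    (φ : L ⟶ (shiftFunctor (DerivedCategory A) (-i)).obj ((singleFunctor A 0).obj N)) : φ = 0 := by
  haveI : ((singleFunctor A i).obj N).IsGE i := inferInstance
  rw [← cancel_mono (singleShift i N).hom, zero_comp]
  exact TStructure.t.zero (φ ≫ (singleShift i N).hom) b i hi

/-- The top cohomology maps out of the object. -/
theorem exists_toSingle {L : DerivedCategory A} {c : ℤ} [L.IsLE c] {N : A}
    (g : (homologyFunctor A c).obj L ⟶ N) (hg : g ≠ 0) :
    ∃ φ : L ⟶ (shiftFunctor (DerivedCategory A) (-c)).obj ((singleFunctor A 0).obj N), φ ≠ 0 := by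
  obtain ⟨K, hK, ⟨e⟩⟩ := L.exists_iso_Q_obj_of_isLE c
  haveI : (K.truncGE c).IsStrictlyLE c := inferInstance
  obtain ⟨Y, ⟨eY⟩⟩ := CochainComplex.exists_iso_single (K.truncGE c) c
  let π : L ⟶ (singleFunctor A c).obj Y :=
    e.hom ≫ Q.map (K.πTruncGE c) ≫ (Q.mapIso eY).hom ≫ ((singleFunctorIsoCompQ A c).app Y).inv
  haveI : IsIso ((homologyFunctor A c).map (Q.map (K.πTruncGE c))) := by
    refine (NatIso.isIso_map_iff (homologyFunctorFactors A c) (K.πTruncGE c)).2 ?_
    exact (quasiIsoAt_iff_isIso_homologyMap _ _).1 inferInstance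
  haveI : IsIso ((homologyFunctor A c).map π) := by
    simp only [π, Functor.map_comp]
    infer_instance
  let s := (singleFunctorCompHomologyFunctorIso A c).app Y
  let g' : Y ⟶ N := s.inv ≫ inv ((homologyFunctor A c).map π) ≫ g
  refine ⟨π ≫ (singleFunctor A c).map g' ≫ (singleShift c N).inv, fun h0 => hg ?_⟩
  have h1 : π ≫ (singleFunctor A c).map g' = 0 := by
    rw [← cancel_mono (singleShift c N).inv, zero_comp, Category.assoc]
    exact h0
  have h2 := congrArg (homologyFunctor A c).map h1
  rw [Functor.map_comp, Functor.map_zero] at h2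
  have h3 : (homologyFunctor A c).map ((singleFunctor A c).map g') = 0 := by
    rw [← cancel_epi ((homologyFunctor A c).map π), h2, comp_zero]
  have h4 := (singleFunctorCompHomologyFunctorIso A c).hom.naturality g'
  simp only [Functor.comp_map, Functor.id_map, h3, zero_comp] at h4
  have h5 : g' = 0 := by
    rw [← cancel_epi ((singleFunctorCompHomologyFunctorIso A c).hom.app Y), comp_zero]
    exact h4.symm
  have h6 : s.inv ≫ inv ((homologyFunctor A c).map π) ≫ g = 0 := h5
  rw [← cancel_epi (s.inv ≫ inv ((homologyFunctor A c).map π)), comp_zero, Category.assoc]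
  exact h6

section Local

variable {R : Type u} [CommRing R] [IsLocalRing R] [HasDerivedCategory.{w} (ModuleCat.{u} R)]

/-- `L` has no cohomology above `b` iff it has no maps to shifts of the residue field above `b`. -/
theorem forall_isZero_iff {L : DerivedCategory (ModuleCat.{u} R)} {c₀ : ℤ} [L.IsLE c₀]
    (hfin : ∀ i : ℤ, Module.Finite R ((homologyFunctor (ModuleCat.{u} R) i).obj L))
    (N : ModuleCat.{u} R) (hgen : ∀ M : ModuleCat.{u} R, Module.Finite R M →
      Nontrivial M → ∃ g : M ⟶ N, g ≠ 0) (b : ℤ) :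
    (∀ i : ℤ, b < i → IsZero ((homologyFunctor (ModuleCat.{u} R) i).obj L)) ↔
      ∀ i : ℤ, b < i → ∀ φ : L ⟶ (shiftFunctor (DerivedCategory (ModuleCat.{u} R)) (-i)).obj
        ((singleFunctor (ModuleCat.{u} R) 0).obj N), φ = 0 := by
  constructor
  · intro h i hi φ
    haveI : L.IsLE b := (isLE_iff L b).2 h
    exact eq_zero_of_isLE hi N φ
  · intro h
    suffices H : ∀ (k : ℕ) (i : ℤ), b < i → c₀ < i + k →
        IsZero ((homologyFunctor (ModuleCat.{u} R) i).obj L) from
      fun i hi => H (c₀ - i + 1).toNat i hi (by omega)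
    intro k
    induction k with
    | zero => exact fun i _ hi => L.isZero_of_isLE c₀ i (by omega)
    | succ k ih =>
      intro i hi hik
      haveI : L.IsLE i := (isLE_iff L i).2 fun j hj => ih j (by omega) (by push_cast at hik; omega)
      by_contra hne
      haveI := hfin i
      obtain ⟨g, hg⟩ := hgen _ (hfin i) (by
        by_contra hnt
        rw [not_nontrivial_iff_subsingleton] at hnt
        exact hne (ModuleCat.isZero_of_iff_subsingleton.2 hnt))
      obtain ⟨φ, hφ⟩ := exists_toSingle g hg
      exact hφ (h i hi φ)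

end Local

/-- Finite modules over a local ring map non-trivially to the residue field. -/
theorem exists_linearMap_residueField {R M N : Type u} [CommRing R] [IsLocalRing R] [AddCommGroup M]
    [Module R M] [Module.Finite R M] [Nontrivial M] [AddCommGroup N] [Module R N] [Nontrivial N]
    (hN : ∀ a ∈ IsLocalRing.maximalIdeal R, ∀ z : N, a • z = 0) : ∃ g : M →ₗ[R] N, g ≠ 0 := by
  haveI : IsCoatomic (Submodule R M) :=
    CompleteLattice.coatomic_of_top_compact ((Submodule.fg_iff_compact ⊤).1 Module.Finite.fg_top)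
  obtain ⟨P, hP⟩ := IsCoatomic.exists_coatom (α := Submodule R M)
  obtain ⟨I, hI, ⟨e⟩⟩ := isSimpleModule_iff_quot_maximal.1 (isSimpleModule_iff_isCoatom.2 hP)
  obtain ⟨z, hz⟩ := exists_ne (0 : N)
  have hIm : I = IsLocalRing.maximalIdeal R := IsLocalRing.eq_maximalIdeal hI
  let h : (R ⧸ I) →ₗ[R] N := Submodule.liftQ I (LinearMap.toSpanSingleton R N z)
    (fun a ha => hN a (hIm ▸ ha) z)
  refine ⟨h ∘ₗ e.toLinearMap ∘ₗ P.mkQ, fun h0 => hz ?_⟩
  obtain ⟨m, hm⟩ := P.mkQ_surjective (e.symm (Submodule.Quotient.mk 1))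
  have h1 := LinearMap.congr_fun h0 m
  simp only [LinearMap.comp_apply, LinearMap.zero_apply, hm, LinearEquiv.coe_coe,
    LinearEquiv.apply_symm_apply] at h1
  have h2 : (1 : R) • z = 0 := h1
  rwa [one_smul] at h2

end Groth.Agent.PointOrth
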