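import Groth.Agent.H9Misc.DRingNakayama
import Groth.Agent.PointOrth.Top
import Mathlib.Algebra.Homology.Embedding.CochainComplex
import Mathlib.RingTheory.Finiteness.Ideal
import Mathlib.LinearAlgebra.FreeModule.Basic

/-!
# Homomorphisms from modules supported at a maximal ideal detect cohomology there
-/

set_option linter.style.haveILetI false
set_option linter.unusedSectionVars false

universe w v u

attribute [local instance] HasDerivedCategory.standard

open CategoryTheory CategoryTheory.Limits CategoryTheory.Pretriangulated DerivedCategory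

namespace Groth.Agent.PointOrth

section Gen

variable {A : Type u} [Category.{v} A] [Abelian A] [HasDerivedCategory.{w} A]

/-- Maps into the bottom cohomology lift. -/
theorem exists_fromSingle {L : DerivedCategory A} {c : ℤ} [L.IsGE c] {N : A}
    (g : N ⟶ (homologyFunctor A c).obj L) (hg : g ≠ 0) :
    ∃ φ : (shiftFunctor (DerivedCategory A) (-c)).obj ((singleFunctor A 0).obj N) ⟶ L, φ ≠ 0 := by
  obtain ⟨K, hK, ⟨e⟩⟩ := L.exists_iso_Q_obj_of_isGE c
  haveI : (K.truncLE c).IsStrictlyGE c := inferInstance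
  obtain ⟨Y, ⟨eY⟩⟩ := CochainComplex.exists_iso_single (K.truncLE c) c
  let ι : (singleFunctor A c).obj Y ⟶ L :=
    ((singleFunctorIsoCompQ A c).app Y).hom ≫ (Q.mapIso eY).inv ≫ Q.map (K.ιTruncLE c) ≫ e.inv
  haveI : IsIso ((homologyFunctor A c).map (Q.map (K.ιTruncLE c))) := by
    refine (NatIso.isIso_map_iff (homologyFunctorFactors A c) (K.ιTruncLE c)).2 ?_
    exact (quasiIsoAt_iff_isIso_homologyMap _ _).1 inferInstance
  haveI : IsIso ((homologyFunctor A c).map ι) := by
    simp only [ι, Functor.map_comp]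
    infer_instance
  let s := (singleFunctorCompHomologyFunctorIso A c).app Y
  let g' : N ⟶ Y := g ≫ inv ((homologyFunctor A c).map ι) ≫ s.hom
  refine ⟨(singleShift c N).hom ≫ (singleFunctor A c).map g' ≫ ι, fun h0 => hg ?_⟩
  have h1 : (singleFunctor A c).map g' ≫ ι = 0 := by
    rw [← cancel_epi (singleShift c N).hom, comp_zero]
    exact h0
  have h2 := congrArg (homologyFunctor A c).map h1
  rw [Functor.map_comp, Functor.map_zero] at h2
  have h3 : (homologyFunctor A c).map ((singleFunctor A c).map g') = 0 := by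
    rw [← cancel_mono ((homologyFunctor A c).map ι), h2, zero_comp]
  have h4 := (singleFunctorCompHomologyFunctorIso A c).hom.naturality g'
  simp only [Functor.comp_map, Functor.id_map, h3, zero_comp] at h4
  have h5 : g' = 0 := by
    rw [← cancel_epi ((singleFunctorCompHomologyFunctorIso A c).hom.app N), comp_zero]
    exact h4.symm
  have h6 : g ≫ (inv ((homologyFunctor A c).map ι) ≫ s.hom) = 0 := h5
  rw [← cancel_mono (inv ((homologyFunctor A c).map ι) ≫ s.hom), zero_comp]
  exact h6

end Gen

section Ring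

variable {A : Type u} [CommRing A]

/-- Modules killed by a maximal ideal map non-trivially to one another. -/
theorem exists_linearMap_of_killed {m : Ideal A} [m.IsMaximal] {M H : Type u} [AddCommGroup M] [Module A M]
    [Nontrivial M] (hM : ∀ a ∈ m, ∀ z : M, a • z = 0) [AddCommGroup H] [Module A H] {h : H} (h0 : h ≠ 0)
    (hh : ∀ a ∈ m, a • h = 0) : ∃ g : M →ₗ[A] H, g ≠ 0 := by
  classical
  have hts : Module.IsTorsionBySet A M (m : Set A) := fun z a => hM a.1 a.2 z
  letI : Module (A ⧸ m) M := hts.module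
  haveI : IsScalarTower A (A ⧸ m) M := hts.isScalarTower
  letI : Field (A ⧸ m) := Ideal.Quotient.field m
  let bs := Module.Free.chooseBasis (A ⧸ m) M
  obtain ⟨i⟩ := bs.index_nonempty
  let h' : (A ⧸ m) →ₗ[A] H := Submodule.liftQ m (LinearMap.toSpanSingleton A H h) fun a ha => hh a ha
  refine ⟨h' ∘ₗ (bs.coord i).restrictScalars A, fun hg => h0 ?_⟩
  have h1 := LinearMap.congr_fun hg (bs i)
  simp only [LinearMap.comp_apply, LinearMap.restrictScalars_apply, Module.Basis.coord_apply,
    Module.Basis.repr_self, Finsupp.single_eq_same, LinearMap.zero_apply] at h1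
  have h2 : (1 : A) • h = 0 := h1
  rwa [one_smul] at h2

/-- A non-zero torsion module at a maximal ideal has socle. -/
theorem exists_socle (m : Ideal A) {H : Type u} [AddCommGroup H] [Module A H] [Nontrivial H] {n : ℕ}
    (hn : ∀ a ∈ m ^ n, ∀ z : H, a • z = 0) : ∃ h : H, h ≠ 0 ∧ ∀ a ∈ m, a • h = 0 := by
  induction n with
  | zero =>
    obtain ⟨z, hz⟩ := exists_ne (0 : H)
    exact absurd (by simpa using hn 1 (by simp) z) hz
  | succ n ih =>
    by_cases h : ∀ a ∈ m ^ n, ∀ z : H, a • z = 0
    · exact ih h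
    · push Not at h
      obtain ⟨a, ha, z, hz⟩ := h
      exact ⟨a • z, hz, fun b hb => by
        rw [smul_smul]; exact hn _ (by rw [pow_succ']; exact Ideal.mul_mem_mul hb ha) z⟩

open Groth.Agent.H9Misc in
/-- If no shift of `L` receives maps from a non-zero module killed by `m`, then the cohomology of `L`
vanishes at `m`. -/
theorem exists_smul_eq_zero_of_orth [IsNoetherianRing A] (m : Ideal A) [m.IsMaximal]
    (M : ModuleCat.{u} A) [Nontrivial M] (hM : ∀ a ∈ m, ∀ z : M, a • z = 0)
    (L : DerivedCategory (ModuleCat.{u} A))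
    (hfin : ∀ i : ℤ, Module.Finite A ((homologyFunctor (ModuleCat.{u} A) i).obj L))
    {a₀ : ℤ} [L.IsGE a₀]
    (horth : ∀ (i : ℤ) (φ : (singleFunctor (ModuleCat.{u} A) 0).obj M ⟶
      (shiftFunctor (DerivedCategory (ModuleCat.{u} A)) i).obj L), φ = 0)
    (i : ℤ) (z : (homologyFunctor (ModuleCat.{u} A) i).obj L) : ∃ s ∉ m, s • z = 0 := by
  suffices H : ∀ I : Ideal A, I ≤ m → ∀ (L : DerivedCategory (ModuleCat.{u} A)) (a₀ : ℤ), L.IsGE a₀ →
      (∀ i : ℤ, Module.Finite A ((homologyFunctor (ModuleCat.{u} A) i).obj L)) →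
      (∀ (i : ℤ), ∃ n : ℕ, ∀ a ∈ I ^ n, ∀ z : (homologyFunctor (ModuleCat.{u} A) i).obj L, a • z = 0) →
      (∀ (i : ℤ) (φ : (singleFunctor (ModuleCat.{u} A) 0).obj M ⟶
        (shiftFunctor (DerivedCategory (ModuleCat.{u} A)) i).obj L), φ = 0) →
      ∀ (i : ℤ) (z : (homologyFunctor (ModuleCat.{u} A) i).obj L), ∃ s ∉ m, s • z = 0 from
    H ⊥ bot_le L a₀ ‹_› hfin (fun i => ⟨1, fun a ha z => by
      rw [pow_one, Ideal.mem_bot] at ha
      rw [ha, zero_smul]⟩) horth i z
  intro I
  induction I using WellFoundedGT.induction with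
  | _ I ih =>
  intro hI L a₀ hL hfin hkill horth
  by_cases hm : m ≤ I.radical
  · have hz : ∀ (k : ℕ) (i : ℤ), i < a₀ + k → IsZero ((homologyFunctor (ModuleCat.{u} A) i).obj L) := by
      intro k
      induction k with
      | zero => exact fun i hi => L.isZero_of_isGE a₀ i (by omega)
      | succ k ihk =>
        intro i hi
        by_contra hne
        haveI : L.IsGE i := (isGE_iff L i).2 fun j hj => ihk j (by push_cast at hi; omega)
        haveI : Nontrivial ((homologyFunctor (ModuleCat.{u} A) i).obj L) := by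
          by_contra hnt
          rw [not_nontrivial_iff_subsingleton] at hnt
          exact hne (ModuleCat.isZero_of_iff_subsingleton.2 hnt)
        obtain ⟨k', hk'⟩ := Ideal.exists_pow_le_of_le_radical_of_fg hm (IsNoetherian.noetherian m)
        obtain ⟨n, hn⟩ := hkill i
        have hmn : ∀ a ∈ m ^ (k' * n), ∀ z : (homologyFunctor (ModuleCat.{u} A) i).obj L, a • z = 0 :=
          fun a ha => hn a (by rw [pow_mul] at ha; exact Ideal.pow_right_mono hk' n ha)
        obtain ⟨h, h0, hh⟩ := exists_socle m hmn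
        obtain ⟨g, hg⟩ := exists_linearMap_of_killed hM h0 hh
        obtain ⟨φ, hφ⟩ := exists_fromSingle (ModuleCat.ofHom g)
          fun e => hg (congrArg ModuleCat.Hom.hom e)
        apply hφ
        let adj := (shiftEquiv' (DerivedCategory (ModuleCat.{u} A)) (-i) i (by omega)).toAdjunction
        apply (adj.homEquiv _ _).injective
        exact (horth i _).trans (horth i _).symm
    intro i z
    refine ⟨1, fun h1 => Ideal.IsMaximal.ne_top ‹m.IsMaximal› ((Ideal.eq_top_iff_one _).2 h1), ?_⟩
    haveI := ModuleCat.subsingleton_of_isZero (hz (i - a₀ + 1).toNat i (by omega))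
    exact Subsingleton.elim _ _
  · obtain ⟨x, hxm, hxI⟩ := SetLike.not_le_iff_exists.1 hm
    let J := I ⊔ Ideal.span {x}
    have hIJ : I < J := lt_of_le_of_ne le_sup_left fun e => hxI (Ideal.le_radical
      (e.symm ▸ Ideal.mem_sup_right (Ideal.mem_span_singleton_self x)))
    have hJm : J ≤ m := sup_le hI (by rwa [Ideal.span_le, Set.singleton_subset_iff])
    obtain ⟨C, j, δ, hT⟩ := distinguished_cocone_triangle (x • 𝟙 L)
    let T := Triangle.mk (x • 𝟙 L) j δ
    let H := homologyFunctor (ModuleCat.{u} A)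
    have hHx : ∀ i, (H i).map (x • 𝟙 L) = x • 𝟙 ((H i).obj L) := fun i => by
      rw [Functor.map_smul, CategoryTheory.Functor.map_id]
    have e2 : ∀ i, Function.Exact ((H i).map (x • 𝟙 L)).hom ((H i).map j).hom := fun i =>
      (ShortComplex.ShortExact.moduleCat_exact_iff_function_exact _).1 (HomologySequence.exact₂ T hT i)
    have e3 : ∀ i, Function.Exact ((H i).map j).hom
        (HomologySequence.δ T i (i + 1) rfl).hom := fun i =>
      (ShortComplex.ShortExact.moduleCat_exact_iff_function_exact _).1 (HomologySequence.exact₃ T hT i (i + 1) rfl)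
    have e1 : ∀ i, Function.Exact (HomologySequence.δ T i (i + 1) rfl).hom
        ((H (i + 1)).map (x • 𝟙 L)).hom := fun i =>
      (ShortComplex.ShortExact.moduleCat_exact_iff_function_exact _).1 (HomologySequence.exact₁ T hT i (i + 1) rfl)
    have hxmap : ∀ i (w : (H i).obj L), ((H i).map (x • 𝟙 L)).hom w = x • w := fun i w => by
      rw [hHx]; rfl
    have hCge : C.IsGE (a₀ - 1) := (isGE_iff C _).2 fun i hi => by
      have z1 : IsZero ((H i).obj L) := L.isZero_of_isGE a₀ i (by omega)
      have z2 : IsZero ((H (i + 1)).obj L) := L.isZero_of_isGE a₀ (i + 1) (by omega)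
      exact (HomologySequence.exact₃ T hT i (i + 1) rfl).isZero_of_both_zeros (z1.eq_of_src _ _)
        (z2.eq_of_tgt _ _)
    have hCfin : ∀ i, Module.Finite A ((H i).obj C) := fun i => by
      haveI := hfin i
      haveI := hfin (i + 1)
      haveI : IsNoetherian A ((H i).obj L) := isNoetherian_of_isNoetherianRing_of_finite A _
      haveI : IsNoetherian A ((H (i + 1)).obj T.obj₁) := @isNoetherian_of_isNoetherianRing_of_finite A _ _ _ _ _ (hfin (i + 1))
      haveI : IsNoetherian A ((H i).obj C) := isNoetherian_of_range_eq_ker ((H i).map j).hom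
        (HomologySequence.δ T i (i + 1) rfl).hom (e3 i).linearMap_ker_eq.symm
      infer_instance
    have hCkill : ∀ i, ∃ n : ℕ, ∀ a ∈ J ^ n, ∀ c : (H i).obj C, a • c = 0 := fun i => by
      obtain ⟨n₁, hn₁⟩ := hkill i
      obtain ⟨n₂, hn₂⟩ := hkill (i + 1)
      let Ann : Ideal A :=
        { carrier := {a | ∀ c : (H i).obj C, a • c = 0}
          zero_mem' := fun c => zero_smul _ c
          add_mem' := fun {a b} ha hb c => by rw [add_smul, ha c, hb c, add_zero]
          smul_mem' := fun r a ha c => by rw [smul_eq_mul, mul_smul, ha c, smul_zero] }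
      have hJA : J ≤ Ann.radical := sup_le (fun a ha => ⟨n₁ + n₂, fun c => by
        have h1 : (HomologySequence.δ T i (i + 1) rfl).hom (a ^ n₂ • c) = 0 := by
          exact (LinearMap.map_smul _ _ _).trans (hn₂ _ (Ideal.pow_mem_pow ha n₂) _)
        obtain ⟨w, hw⟩ := (e3 i _).1 h1
        rw [pow_add, mul_smul, ← hw, ← map_smul, hn₁ _ (Ideal.pow_mem_pow ha n₁) w, map_zero]⟩)
        (by
          rw [Ideal.span_le, Set.singleton_subset_iff]
          refine ⟨2, fun c => ?_⟩
          have h1 : (HomologySequence.δ T i (i + 1) rfl).hom (x • c) = 0 := by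
            refine (LinearMap.map_smul _ _ _).trans ?_
            exact (hxmap _ _).symm.trans ((e1 i).apply_apply_eq_zero c)
          obtain ⟨w, hw⟩ := (e3 i _).1 h1
          rw [pow_two, mul_smul, ← hw, ← map_smul, ← hxmap]
          exact (e2 i).apply_apply_eq_zero w)
      obtain ⟨n, hn⟩ := Ideal.exists_pow_le_of_le_radical_of_fg hJA (IsNoetherian.noetherian J)
      exact ⟨n, fun a ha => hn ha⟩
    have hCorth : ∀ (i : ℤ) (φ : (singleFunctor (ModuleCat.{u} A) 0).obj M ⟶
        (shiftFunctor (DerivedCategory (ModuleCat.{u} A)) i).obj C), φ = 0 := fun i φ => by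
      obtain ⟨ψ, hψ⟩ := Triangle.coyoneda_exact₃ _ (Triangle.shift_distinguished T hT i) φ (by
        refine (cancel_mono ((shiftFunctorAdd' (DerivedCategory (ModuleCat.{u} A)) i 1 (i + 1) rfl).inv.app L)).1
          ((horth _ _).trans zero_comp.symm))
      rw [hψ]
      exact (congrArg (· ≫ _) (horth i ψ)).trans zero_comp
    have hC := ih J hIJ hJm C (a₀ - 1) hCge hCfin hCkill hCorth
    intro i z
    haveI := hfin i
    have htop : ∀ w : (H i).obj L, w ∈ m • (⊤ : Submodule A ((H i).obj L)) := fun w => by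
      obtain ⟨s, hs, hs0⟩ := hC i (((H i).map j).hom w)
      rw [← map_smul] at hs0
      obtain ⟨w', hw'⟩ := (e2 i _).1 hs0
      rw [hxmap] at hw'
      obtain ⟨t, b, hb, htb⟩ := Ideal.IsMaximal.exists_inv ‹m.IsMaximal› hs
      have : w = t • (s • w) + b • w := by rw [smul_smul, ← add_smul, htb, one_smul]
      rw [this, ← hw', smul_comm t x w']
      exact Submodule.add_mem _ (Submodule.smul_mem_smul hxm trivial) (Submodule.smul_mem_smul hb trivial)
    obtain ⟨r, hr, hr0⟩ := Submodule.exists_sub_one_mem_and_smul_eq_zero_of_fg_of_le_smul m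
      (⊤ : Submodule A ((H i).obj L)) Module.Finite.fg_top (fun w _ => htop w)
    refine ⟨r, fun hrm => Ideal.IsMaximal.ne_top ‹m.IsMaximal› ((Ideal.eq_top_iff_one _).2 ?_), hr0 z trivial⟩
    simpa using m.sub_mem hrm hr

end Ring

end Groth.Agent.PointOrth
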