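import Groth.Agent.PointOrth.Top
import Groth.Agent.KFlatLib.Scheme.Pullback
import Groth.Agent.KFlatLib.PsiC
import Groth.Agent.SiteBase.HDURestr
import Groth.Agent.QCoh.Stalk
import Groth.Prelude.Def_CohB1
import Groth.Prelude.Def_DCoh2

/-!
# Homomorphisms to point sheaves in the derived category
-/

set_option linter.style.haveILetI false
set_option linter.unusedSectionVars false
set_option backward.isDefEq.respectTransparency false
set_option backward.isDefEq.respectTransparency.types false
set_option maxHeartbeats 1000000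

universe u

open CategoryTheory CategoryTheory.Limits AlgebraicGeometry TopologicalSpace Opposite

attribute [local instance] HasDerivedCategory.standard

namespace Groth.Agent.PointOrth

open Groth.Agent KFlatLib

variable {X : Scheme.{u}} (x : X)

instance preservesHomology_sky : (sky x).PreservesHomology :=
  Functor.preservesHomology_of_map_exact _ fun S hS => exact_map_sky x S hS

instance preservesFiniteLimits_sky : PreservesFiniteLimits (sky x) :=
  (sky x).preservesFiniteLimits_of_preservesHomology

instance preservesFiniteColimits_sky : PreservesFiniteColimits (sky x) :=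
  (sky x).preservesFiniteColimits_of_preservesHomology

/-- Maps into shifted skyscrapers are maps out of the stalk. -/
theorem forall_eq_zero_iff (K : DCoh.D X) (N : ModuleCat.{u} (X.presheaf.stalk x)) (n : ℤ) :
    (∀ φ : K ⟶ (shiftFunctor (DCoh.D X) n).obj (DCoh.inD X ((sky x).obj N)), φ = 0) ↔
      ∀ φ : (DerSch.stalkFunctor X x).mapDerivedCategory.obj K ⟶
        (shiftFunctor (DerivedCategory (ModuleCat.{u} (X.presheaf.stalk x))) n).obj
          ((DerivedCategory.singleFunctor _ 0).obj N), φ = 0 := by
  haveI : (DerSch.stalkFunctor X x).Additive := (skyAdj x).left_adjoint_additive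
  let adj := HDURestr.derivedAdj (skyAdj x)
  let e : (sky x).mapDerivedCategory.obj ((shiftFunctor (DerivedCategory (ModuleCat.{u} (X.presheaf.stalk x))) n).obj
      ((DerivedCategory.singleFunctor _ 0).obj N)) ≅
      (shiftFunctor (DCoh.D X) n).obj (DCoh.inD X ((sky x).obj N)) :=
    ((sky x).mapDerivedCategory.commShiftIso n).app _ ≪≫
      (shiftFunctor (DCoh.D X) n).mapIso (((sky x).mapDerivedCategorySingleFunctor 0).app N)
  constructor
  · intro h φ
    apply (adj.homEquiv _ _).injective
    rw [← cancel_mono e.hom, h (adj.homEquiv _ _ φ ≫ e.hom), h (adj.homEquiv _ _ 0 ≫ e.hom)]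
  · intro h φ
    have h0 : (adj.homEquiv _ _).symm (φ ≫ e.inv) = (adj.homEquiv _ _).symm 0 := (h _).trans (h _).symm
    rw [← cancel_mono e.inv, zero_comp]
    exact (adj.homEquiv _ _).symm.injective h0

theorem isIso_unit_of_subsingleton [Subsingleton X] (M : X.Modules) : IsIso ((skyAdj x).unit.app M) := by
  refine isIso_of_stalk _ fun y => ?_
  obtain rfl : x = y := Subsingleton.elim _ _
  haveI : ∀ N : ModuleCat.{u} (X.presheaf.stalk x), IsIso ((skyAdj x).counit.app N) := fun N => by
    have h : (skyAdj x).counit.app N =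
        (stalkToPIso x).hom.app ((sky x).obj N) ≫ ofSkyP x (SheafOfModules.Hom.val (𝟙 ((sky x).obj N))) := by
      rw [← Adjunction.homEquiv_symm_id, skyAdj, Adjunction.mkOfHomEquiv_homEquiv]
      rfl
    rw [h]
    haveI : IsIso (ofSkyP x (SheafOfModules.Hom.val (𝟙 ((sky x).obj N)))) := by
      have h1 : ofSkyP x (SheafOfModules.Hom.val (𝟙 ((sky x).obj N))) = (skyStalkEquiv x N).toModuleIso.hom := by
        refine stalkMod_ext (P := skyP x N) fun U hU s => ?_
        exact (ofSkyP_germ x _ U hU s).trans (skyEval_germ x N U hU s).symm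
      rw [h1]
      infer_instance
    infer_instance
  exact IsIso.of_isIso_fac_right ((skyAdj x).left_triangle_components M)

/-- The point sheaf is a skyscraper of a module killed by the maximal ideal. -/
theorem exists_pointSheaf_iso :
    ∃ N : ModuleCat.{u} (X.presheaf.stalk x), Nontrivial N ∧
      (∀ a ∈ IsLocalRing.maximalIdeal (X.presheaf.stalk x), ∀ z : N, a • z = 0) ∧
      Nonempty ((Scheme.Modules.pushforward (X.fromSpecResidueField x)).obj (Coh.structureModule _) ≅
        (sky x).obj N) := by
  let f := X.fromSpecResidueField x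
  let pt : (Spec (X.residueField x) : Scheme.{u}) := IsLocalRing.closedPoint (X.residueField x)
  obtain ⟨y, hy⟩ : ∃ y, y = f.base pt := ⟨_, rfl⟩
  have hyx : y = x := hy.trans (X.fromSpecResidueField_apply x pt)
  suffices H : ∃ N : ModuleCat.{u} (X.presheaf.stalk y), Nontrivial N ∧
      (∀ a ∈ IsLocalRing.maximalIdeal (X.presheaf.stalk y), ∀ z : N, a • z = 0) ∧
      Nonempty ((Scheme.Modules.pushforward f).obj (Coh.structureModule _) ≅ (sky y).obj N) by
    subst hyx
    exact H
  subst hy
  haveI : Subsingleton (Spec (X.residueField x) : Scheme.{u}) :=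
    inferInstanceAs (Subsingleton (PrimeSpectrum (X.residueField x)))
  let M : (Spec (X.residueField x) : Scheme.{u}).Modules := Coh.structureModule _
  haveI := isIso_unit_of_subsingleton pt M
  let S : ModuleCat.{u} ((Spec (X.residueField x) : Scheme.{u}).presheaf.stalk pt) :=
    (DerSch.stalkFunctor _ pt).obj M
  refine ⟨(ModuleCat.restrictScalars (f.stalkMap pt).hom).obj S, ?_, ?_, ?_⟩
  · let P : Scheme.{u} := Spec (X.residueField x)
    refine ⟨M.presheaf.germ ⊤ pt trivial (1 : Γ(P, ⊤)), 0, fun h => ?_⟩
    obtain ⟨W, hW, i, j, he⟩ := TopCat.Presheaf.germ_eq M.presheaf pt (U := ⊤) (V := ⊤) trivial trivial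
      (1 : Γ(P, ⊤)) (0 : Γ(P, ⊤)) (h.trans (map_zero _).symm)
    have h1 : P.presheaf.map i.op (1 : Γ(P, ⊤)) = P.presheaf.map j.op (0 : Γ(P, ⊤)) := he
    rw [map_one, map_zero] at h1
    haveI : Nonempty W := ⟨⟨pt, hW⟩⟩
    exact one_ne_zero h1
  · intro a ha z
    haveI : IsLocalHom (f.stalkMap pt).hom := inferInstance
    have hfield : IsLocalRing.maximalIdeal ((Spec (X.residueField x) : Scheme.{u}).presheaf.stalk pt) = ⊥ :=
      IsLocalRing.isField_iff_maximalIdeal_eq.1 (MulEquiv.isField (Field.toIsField (X.residueField x))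
        ((StructureSheaf.stalkIso (X.residueField x) pt).symm.toRingEquiv.toMulEquiv.trans
          (IsLocalization.atUnits (X.residueField x) pt.asIdeal.primeCompl
            (fun r hr => isUnit_iff_ne_zero.2 (fun h => hr (by rw [h]; exact Submodule.zero_mem _)))
            (S := Localization.AtPrime pt.asIdeal)).symm.toMulEquiv))
    have h1 : (f.stalkMap pt).hom a ∈
        IsLocalRing.maximalIdeal ((Spec (X.residueField x) : Scheme.{u}).presheaf.stalk pt) :=
      fun hu => ha (IsUnit.of_map (f.stalkMap pt).hom a hu)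
    rw [hfield, Ideal.mem_bot] at h1
    show (f.stalkMap pt).hom a • (z : S) = 0
    rw [h1, zero_smul]
  · exact ⟨(Scheme.Modules.pushforward f).mapIso (asIso ((skyAdj pt).unit.app M)) ≪≫
      (skyPushforwardIso f pt).app S⟩

/-- Stalks vanish above `b` iff there are no maps to shifts of the point sheaf above `b`. -/
theorem stalks_vanish_iff (K : DCoh.D X) (hK : DCoh.IsCohD K) (c : ℤ) [DerivedCategory.IsLE K c] (b : ℤ) :
    (∀ i : ℤ, b < i → x ∉ CohB1.support (DCoh.HD K i)) ↔
      ∀ i : ℤ, b < i → ∀ φ : K ⟶ (shiftFunctor (DCoh.D X) (-i)).obj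
        (DCoh.inD X ((Scheme.Modules.pushforward (X.fromSpecResidueField x)).obj (Coh.structureModule _))),
          φ = 0 := by
  obtain ⟨N, hN, hkill, ⟨e⟩⟩ := exists_pointSheaf_iso x
  haveI := hN
  haveI : (DerSch.stalkFunctor X x).Additive := (skyAdj x).left_adjoint_additive
  let S := (DerSch.stalkFunctor X x).mapDerivedCategory
  let hom := fun i => (mapDCHomologyIso (DerSch.stalkFunctor X x) i).app K
  haveI : (S.obj K).IsLE c := (DerivedCategory.isLE_iff _ _).2 fun i hi =>
    ((DerSch.stalkFunctor X x).map_isZero (K.isZero_of_isLE c i hi)).of_iso (hom i)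
  have hfin : ∀ i : ℤ, Module.Finite (X.presheaf.stalk x)
      ((DerivedCategory.homologyFunctor (ModuleCat.{u} (X.presheaf.stalk x)) i).obj (S.obj K)) := fun i => by
    haveI : Module.Finite (X.presheaf.stalk x)
        ((DerivedCategory.homologyFunctor X.Modules i ⋙ DerSch.stalkFunctor X x).obj K) :=
      QCoh.finite_stalk_of_isFT (hK i).1 (hK i).2 x
    exact Module.Finite.equiv (hom i).toLinearEquiv.symm
  have key := forall_isZero_iff (L := S.obj K) (c₀ := c) hfin N (fun M hM hM' => by
    haveI := hM
    haveI := hM'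
    obtain ⟨g, hg⟩ := exists_linearMap_residueField (M := M) (N := N) hkill
    exact ⟨ModuleCat.ofHom g, fun h => hg (congrArg ModuleCat.Hom.hom h)⟩) b
  refine ⟨fun h i hi φ => ?_, fun h i hi => not_not.2 ?_⟩
  · let d := (shiftFunctor (DCoh.D X) (-i)).mapIso ((DerivedCategory.singleFunctor X.Modules 0).mapIso e)
    rw [← cancel_mono d.hom, zero_comp]
    refine (forall_eq_zero_iff x K N (-i)).2 (key.1 (fun j hj => ?_) i hi) _
    haveI : Subsingleton ((DerivedCategory.homologyFunctor X.Modules j ⋙ DerSch.stalkFunctor X x).obj K) :=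
      not_not.1 (h j hj)
    exact (ModuleCat.isZero_of_subsingleton _).of_iso (hom j)
  · have h2 := key.2 (fun j hj ψ => (forall_eq_zero_iff x K N (-j)).1 (fun φ => by
      let d := (shiftFunctor (DCoh.D X) (-j)).mapIso ((DerivedCategory.singleFunctor X.Modules 0).mapIso e)
      rw [← cancel_mono d.inv, zero_comp]
      exact h j hj _) ψ) i hi
    exact ModuleCat.subsingleton_of_isZero (h2.of_iso (hom i).symm)

end Groth.Agent.PointOrth
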