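import Groth.Agent.PointOrth.Bottom
import Groth.Agent.PointOrth.Sky
import Groth.Agent.S0997
import Groth.Agent.QCoh.FT
import Groth.Agent.QCoh.Qcqs
import Groth.Agent.InjQC.QCohInj
import Groth.Prelude.Def_DCoh3

/-!
# Homomorphisms from point sheaves detect coherent complexes
-/

set_option linter.style.haveILetI false
set_option linter.unusedSectionVars false
set_option backward.isDefEq.respectTransparency false
set_option backward.isDefEq.respectTransparency.types false
set_option maxHeartbeats 1000000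

universe u

open CategoryTheory CategoryTheory.Limits AlgebraicGeometry TopologicalSpace Opposite

attribute [local instance] HasDerivedCategory.standard

namespace Groth.Agent.PointOrth

open Groth.Agent KFlatLib

variable {X : Scheme.{u}}

theorem isZero_stalk_sky {x : X} (hx : IsClosed ({x} : Set X)) (N : ModuleCat.{u} (X.presheaf.stalk x))
    {z : X} (hz : z ≠ x) : IsZero ((DerSch.stalkFunctor X z).obj ((sky x).obj N)) := by
  refine ModuleCat.isZero_of_iff_subsingleton.2 ?_
  refine subsingleton_of_forall_eq 0 fun m => ?_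
  obtain ⟨U, hU, s, rfl⟩ := TopCat.Presheaf.exists_germ_eq ((sky x).obj N).presheaf m
  let W : X.Opens := U ⊓ ⟨({x} : Set X)ᶜ, hx.isOpen_compl⟩
  have hW : z ∈ W := ⟨hU, hz⟩
  rw [← InjQC.germ_res ((sky x).obj N) (inf_le_left : W ≤ U) hW s]
  refine Eq.trans (congrArg _ ?_) (map_zero _)
  exact funext fun h => absurd rfl h.down.2

/-- If no shift of a coherent bounded below complex receives maps from the point sheaf of a closed
point, then its cohomology vanishes there. -/
theorem stalks_eq_zero_of_orth [IsLocallyNoetherian X] {x : X} (hx : IsClosed ({x} : Set X))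
    (K : DCoh.D X) (hK : DCoh.IsCohD K) (a : ℤ) [DerivedCategory.IsGE K a]
    (h : ∀ (i : ℤ) (φ : DCoh.inD X ((Scheme.Modules.pushforward (X.fromSpecResidueField x)).obj
      (Coh.structureModule _)) ⟶ (shiftFunctor (DCoh.D X) i).obj K), φ = 0) (i : ℤ) :
    x ∉ CohB1.support (DCoh.HD K i) := by
  obtain ⟨N, hN, hkill, ⟨eN⟩⟩ := exists_pointSheaf_iso x
  let P : X.Modules := (sky x).obj N
  have hP : ∀ (i : ℤ) (φ : DCoh.inD X P ⟶ (shiftFunctor (DCoh.D X) i).obj K), φ = 0 := fun i φ => by
    rw [← cancel_epi ((DerivedCategory.singleFunctor X.Modules 0).map eN.hom), comp_zero]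
    exact h i _
  obtain ⟨_, ⟨V, hV, rfl⟩, hxV, -⟩ :=
    X.isBasis_affineOpens.exists_subset_of_mem_open (Set.mem_univ x) isOpen_univ
  let A := Γ(X, V)
  let j := hV.fromSpec
  haveI : IsNoetherianRing A := IsLocallyNoetherian.component_noetherian ⟨V, hV⟩
  haveI hqc : QuasiCompact (X.fromSpecResidueField x) := inferInstance
  haveI hqs : QuasiSeparated (X.fromSpecResidueField x) := inferInstance
  have hPq : Coh.IsQCoh P := QCoh.isQCoh_iff_iso eN |>.1
    (QCoh.isQCoh_pushforward _ QCoh.isQCoh_structureModule)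
  let R := Scheme.Modules.restrictFunctor j
  haveI : PreservesFiniteColimits R :=
    ⟨fun _ _ _ => (Scheme.Modules.restrictAdjunction j).leftAdjoint_preservesColimits.preservesColimitsOfShape⟩
  let adj := lshAdj j
  have hxr : x ∈ Set.range j.base := by rw [hV.range_fromSpec]; exact hxV
  haveI : IsIso (adj.counit.app P) := by
    refine isIso_of_restrict_of_stalk j _ ?_ (fun z hz => isZero_stalk_lsh j z hz _)
      fun z hz => isZero_stalk_sky hx N fun e => hz (e ▸ hxr)
    haveI : IsIso (adj.unit.app (R.obj P)) := inferInstance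
    exact IsIso.of_isIso_fac_left (adj.right_triangle_components P)
  let M : ModuleCat.{u} A := moduleSpecΓFunctor.obj (R.obj P)
  haveI : IsIso (R.obj P).fromTildeΓ :=
    (isQuasicoherent_iff_isIso_fromTildeΓ _).1 (QCoh.isQCoh_restrict j hPq)
  let eM : tilde M ≅ R.obj P := asIso (R.obj P).fromTildeΓ
  let cE := QCoh.chartEquiv hV P
  have hMk : ∀ b ∈ (hV.primeIdealOf ⟨x, hxV⟩).asIdeal, ∀ z : M, b • z = 0 := fun b hb z => by
    obtain ⟨s, rfl⟩ := cE.surjective z
    rw [← map_smul]
    refine Eq.trans (congrArg cE ?_) (map_zero _)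
    refine funext fun hh => ?_
    show X.presheaf.germ V x hh.down b • (s hh : N) = 0
    refine hkill _ (fun hu => ?_) _
    exact (QCoh.mem_basicOpen_iff_notMem hV hxV b).1 ((X.mem_basicOpen b x hxV).2 hu) hb
  haveI : Nontrivial M := by
    obtain ⟨n, hn⟩ := exists_ne (0 : N)
    refine ⟨cE (fun _ => n), 0, fun e => hn ?_⟩
    have h0 : (fun _ => n : ∀ hh : PLift (x ∈ V), skyFiber x N V hh.down) = 0 :=
      (LinearEquiv.map_eq_zero_iff cE).1 e
    exact congrFun h0 ⟨hxV⟩
  let KV : DCoh.D (Spec A) := (DCoh.restrictD j).obj K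
  let hom := fun k => (mapDCHomologyIso R k).app K
  have hKV : DCoh.IsQCohD KV := fun k =>
    (QCoh.isQCoh_iff_iso (hom k)).2 (QCoh.isQCoh_restrict j (hK k).1)
  obtain ⟨L, ⟨eL⟩⟩ := ((S0997.result A).2.2 KV).1 hKV
  let T := tilde.functor A
  let hA : ∀ k, tilde ((DerivedCategory.homologyFunctor (ModuleCat.{u} A) k).obj L) ≅
      R.obj (DCoh.HD K k) := fun k =>
    ((mapDCHomologyIso T k).app L).symm ≪≫ (DerivedCategory.homologyFunctor _ k).mapIso eL ≪≫ hom k
  let hΓ : ∀ k, (DerivedCategory.homologyFunctor (ModuleCat.{u} A) k).obj L ≃ₗ[A] Γ(DCoh.HD K k, V) := fun k =>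
    (((tilde.toTildeΓNatIso (R := A)).app _ ≪≫ moduleSpecΓFunctor.mapIso (hA k)).toLinearEquiv).trans
      (QCoh.chartEquiv hV (DCoh.HD K k)).symm
  haveI : L.IsGE a := (DerivedCategory.isGE_iff _ _).2 fun k hk => by
    haveI : Subsingleton Γ(DCoh.HD K k, V) := by
      refine subsingleton_of_forall_eq 0 fun s => ?_
      have hz := K.isZero_of_isGE a k hk
      exact congr(($((IsZero.iff_id_eq_zero _).1 hz)).app V s)
    exact ModuleCat.isZero_of_iff_subsingleton.2 (hΓ k).toEquiv.subsingleton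
  have hfin : ∀ k, Module.Finite A ((DerivedCategory.homologyFunctor (ModuleCat.{u} A) k).obj L) := fun k => by
    haveI := QCoh.finite_of_isFT (hK k).1 (hK k).2 hV
    exact Module.Finite.equiv (hΓ k).symm
  have horth : ∀ (k : ℤ) (φ : (DerivedCategory.singleFunctor (ModuleCat.{u} A) 0).obj M ⟶
      (shiftFunctor (DerivedCategory (ModuleCat.{u} A)) k).obj L), φ = 0 := fun k φ => by
    haveI : (DCoh.tildeD A).Faithful := (S0997.result A).2.1
    apply (DCoh.tildeD A).map_injective
    rw [Functor.map_zero]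
    let eS : (DCoh.tildeD A).obj ((DerivedCategory.singleFunctor (ModuleCat.{u} A) 0).obj M) ≅
        DCoh.inD (Spec A) (R.obj P) :=
      (T.mapDerivedCategorySingleFunctor 0).app M ≪≫ (DerivedCategory.singleFunctor _ 0).mapIso eM
    let eT : (DCoh.tildeD A).obj ((shiftFunctor (DerivedCategory (ModuleCat.{u} A)) k).obj L) ≅
        (DCoh.restrictD j).obj ((shiftFunctor (DCoh.D X) k).obj K) :=
      (T.mapDerivedCategory.commShiftIso k).app L ≪≫ (shiftFunctor _ k).mapIso eL ≪≫
        ((R.mapDerivedCategory.commShiftIso k).app K).symm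
    let dAdj := HDURestr.derivedAdj adj
    let e0 : (lsh j).mapDerivedCategory.obj (DCoh.inD (Spec A) (R.obj P)) ≅ DCoh.inD X P :=
      ((lsh j).mapDerivedCategorySingleFunctor 0).app _ ≪≫
        (DerivedCategory.singleFunctor _ 0).mapIso (asIso (adj.counit.app P))
    have key : ∀ ψ : DCoh.inD (Spec A) (R.obj P) ⟶ (DCoh.restrictD j).obj ((shiftFunctor (DCoh.D X) k).obj K),
        ψ = 0 := fun ψ => by
      have h1 : ∀ q : (lsh j).mapDerivedCategory.obj (DCoh.inD (Spec A) (R.obj P)) ⟶
          (shiftFunctor (DCoh.D X) k).obj K, q = 0 := fun q => by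
        rw [← cancel_epi e0.inv, comp_zero]
        exact hP k _
      exact (dAdj.homEquiv _ _).symm.injective ((h1 _).trans (h1 _).symm)
    rw [← cancel_epi eS.inv, ← cancel_mono eT.hom, comp_zero, zero_comp]
    exact key _
  haveI hm : (hV.primeIdealOf ⟨x, hxV⟩).asIdeal.IsMaximal := by
    refine (PrimeSpectrum.isClosed_singleton_iff_isMaximal _).1 ?_
    have h1 : ({hV.primeIdealOf ⟨x, hxV⟩} : Set (Spec A : Scheme.{u})) = j.base ⁻¹' {x} :=
      Set.ext fun q => ⟨fun e => by rw [Set.mem_singleton_iff.1 e]; exact hV.fromSpec_primeIdealOf ⟨x, hxV⟩,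
        fun e => j.isOpenEmbedding.injective ((Set.mem_singleton_iff.1 e).trans
          (hV.fromSpec_primeIdealOf ⟨x, hxV⟩).symm)⟩
    have h2 := hx.preimage j.continuous
    rw [← h1] at h2
    exact h2
  refine not_not.2 ((QCoh.subsingleton_stalk_iff (hK i).1 hV hxV).2 fun s => ?_)
  obtain ⟨b, hb, hb0⟩ := exists_smul_eq_zero_of_orth (hV.primeIdealOf ⟨x, hxV⟩).asIdeal
    M hMk L hfin (a₀ := a) horth i ((hΓ i).symm s)
  refine ⟨b, (QCoh.mem_basicOpen_iff_notMem hV hxV b).2 hb, ?_⟩
  have := congrArg (hΓ i) hb0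
  rwa [map_smul, LinearEquiv.apply_symm_apply, map_zero] at this

end Groth.Agent.PointOrth
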